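import Mathlib
import Groth.Prelude.Def_EtGlue
import Groth.Agent.S2000

/-!
Flatness and finite projectivity descend along a glueing pair `(R → R', f)`.
-/

set_option autoImplicit false
universe u

open TensorProduct

namespace Groth.Agent.GlueFlatLib

set_option maxHeartbeats 400000

variable {R : Type u} [CommRing R]

/-- The kernel of a surjection between flat modules is flat. -/
lemma flat_ker {F M : Type u} [AddCommGroup F] [Module R F] [AddCommGroup M] [Module R M]
    [Module.Flat R F] [Module.Flat R M] {K : Type u} [AddCommGroup K] [Module R K]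
    (i : K →ₗ[R] F) (hi : Function.Injective i) (g : F →ₗ[R] M) (hg : Function.Surjective g)
    (hex : Function.Exact i g) : Module.Flat R K := by
  rw [Module.Flat.iff_rTensor_preserves_injective_linearMap]
  intro X Y _ _ _ _ h hh
  have h1 : Function.Injective (i.lTensor X) :=
    LinearMap.lTensor_injective_of_exact_of_flat g hg i hi hex X
  have h2 : Function.Injective (h.rTensor F) :=
    Module.Flat.rTensor_preserves_injective_linearMap h hh
  refine Function.Injective.of_comp (f := i.lTensor Y) ?_
  rw [← LinearMap.coe_comp, LinearMap.lTensor_comp_rTensor, ← LinearMap.rTensor_comp_lTensor,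
    LinearMap.coe_comp]
  exact h2.comp h1

/-- If `C ⊗ L → C ⊗ F` is injective and `C ⊗ M` is flat, the same holds for every `C`-module. -/
lemma inj_of_tower {C : Type u} [CommRing C] [Algebra R C] {F M : Type u} [AddCommGroup F]
    [Module R F] [AddCommGroup M] [Module R M] [Module.Flat C (C ⊗[R] M)]
    (g : F →ₗ[R] M) (hg : Function.Surjective g)
    (hC : Function.Injective ((LinearMap.ker g).subtype.lTensor C))
    {N : Type u} [AddCommGroup N] [Module R N] [Module C N] [IsScalarTower R C N] :
    Function.Injective ((LinearMap.ker g).subtype.lTensor N) := by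
  let ι := (LinearMap.ker g).subtype.baseChange C
  have hex : Function.Exact ι (g.baseChange C) :=
    lTensor_exact C (LinearMap.exact_subtype_ker_map g) hg
  have hs : Function.Surjective (g.baseChange C) := LinearMap.lTensor_surjective C hg
  have h1 : Function.Injective (ι.lTensor N) :=
    LinearMap.lTensor_injective_of_exact_of_flat (g.baseChange C) hs ι hC hex N
  let eK := AlgebraTensorModule.cancelBaseChange R C C N (LinearMap.ker g)
  let eF := AlgebraTensorModule.cancelBaseChange R C C N F
  have key : ∀ z, (LinearMap.ker g).subtype.lTensor N (eK z) = eF (ι.lTensor N z) := by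
    intro z
    induction z using TensorProduct.induction_on with
    | zero => simp only [map_zero]
    | add x y hx hy => simp only [map_add, hx, hy]
    | tmul n w =>
      induction w using TensorProduct.induction_on with
      | zero => simp only [TensorProduct.tmul_zero, map_zero]
      | add x y hx hy => simp only [TensorProduct.tmul_add, map_add, hx, hy]
      | tmul c l =>
        simp only [ι, eK, eF, LinearMap.lTensor_tmul, LinearMap.baseChange_tmul,
          AlgebraTensorModule.cancelBaseChange_tmul]
  intro x y h
  obtain ⟨x, rfl⟩ := eK.surjective x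
  obtain ⟨y, rfl⟩ := eK.surjective y
  rw [key, key] at h
  rw [h1 (eF.injective h)]

/-- If `C ⊗ L → C ⊗ F` is injective for the cokernel `C` of an injective map `u : X → Y`, then
`u ⊗ M` is injective. -/
lemma chase {F M : Type u} [AddCommGroup F] [Module R F] [Module.Flat R F] [AddCommGroup M]
    [Module R M] (g : F →ₗ[R] M) (hg : Function.Surjective g)
    {X Y C : Type u} [AddCommGroup X] [Module R X] [AddCommGroup Y] [Module R Y] [AddCommGroup C]
    [Module R C] (u : X →ₗ[R] Y) (hu : Function.Injective u) (v : Y →ₗ[R] C)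
    (hv : Function.Surjective v) (huv : Function.Exact u v)
    (hC : Function.Injective ((LinearMap.ker g).subtype.lTensor C)) :
    Function.Injective (u.rTensor M) := by
  rw [injective_iff_map_eq_zero]
  intro z hz
  obtain ⟨z, rfl⟩ := LinearMap.lTensor_surjective X hg z
  rw [← LinearMap.comp_apply, LinearMap.rTensor_comp_lTensor, ← LinearMap.lTensor_comp_rTensor,
    LinearMap.comp_apply] at hz
  obtain ⟨y, hy⟩ := (lTensor_exact Y (LinearMap.exact_subtype_ker_map g) hg _).1 hz
  have h0 : v.rTensor (LinearMap.ker g) y = 0 := by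
    apply hC
    rw [map_zero, ← LinearMap.comp_apply, LinearMap.lTensor_comp_rTensor,
      ← LinearMap.rTensor_comp_lTensor, LinearMap.comp_apply, hy, ← LinearMap.rTensor_comp_apply,
      huv.linearMap_comp_eq_zero, LinearMap.rTensor_zero, LinearMap.zero_apply]
  obtain ⟨x, rfl⟩ := (rTensor_exact _ huv hv y).1 h0
  rw [← LinearMap.comp_apply, LinearMap.lTensor_comp_rTensor, ← LinearMap.rTensor_comp_lTensor,
    LinearMap.comp_apply] at hy
  rw [← Module.Flat.rTensor_preserves_injective_linearMap u hu hy]
  exact (lTensor_exact X (LinearMap.exact_subtype_ker_map g) hg _).2 ⟨x, rfl⟩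

variable {R' : Type u} [CommRing R'] [Algebra R R'] {f : R}

lemma quot_lift (hq : EtGlue.QuotPowBijective R R' f) (n : ℕ) (x : R') :
    ∃ c : R, ∃ s : R', x = algebraMap R R' c + algebraMap R R' (f ^ n) * s := by
  rcases Nat.eq_zero_or_pos n with rfl | hn
  · exact ⟨0, x, by simp⟩
  obtain ⟨c, hc⟩ := (hq n hn).2 (Ideal.Quotient.mk _ x)
  obtain ⟨c, rfl⟩ := Ideal.Quotient.mk_surjective c
  rw [Ideal.quotientMap_mk, Ideal.Quotient.eq, Ideal.map_span, Set.image_singleton,
    Ideal.mem_span_singleton'] at hc
  obtain ⟨s, hs⟩ := hc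
  exact ⟨c, -s, by linear_combination hs⟩

lemma quot_inj (hq : EtGlue.QuotPowBijective R R' f) (n : ℕ) (c : R) (s : R')
    (h : algebraMap R R' c = algebraMap R R' (f ^ n) * s) : ∃ r : R, c = r * f ^ n := by
  rcases Nat.eq_zero_or_pos n with rfl | hn
  · exact ⟨c, by simp⟩
  have h1 : Ideal.Quotient.mk (Ideal.span {f ^ n}) c = 0 := (hq n hn).1 (by
    rw [Ideal.quotientMap_mk, map_zero, Ideal.Quotient.eq_zero_iff_mem, Ideal.map_span,
      Set.image_singleton, Ideal.mem_span_singleton']
    exact ⟨s, by rw [h, mul_comm]⟩)
  rw [Ideal.Quotient.eq_zero_iff_mem, Ideal.mem_span_singleton'] at h1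
  obtain ⟨r, hr⟩ := h1
  exact ⟨r, hr.symm⟩

/-- An `f`-power torsion module is canonically an `R'`-module. -/
lemma exists_module_of_torsion (hq : EtGlue.QuotPowBijective R R' f) (C : Type u) [AddCommGroup C]
    [Module R C] (hC : ∀ q : C, ∃ n : ℕ, f ^ n • q = 0) :
    ∃ _ : Module R' C, IsScalarTower R R' C := by
  choose N hN using hC
  choose c s hs using quot_lift hq
  have key : ∀ (x : R') (d : R) (n : ℕ) (t : R') (q : C), f ^ n • q = 0 →
      x = algebraMap R R' d + algebraMap R R' (f ^ n) * t → c (N q) x • q = d • q := by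
    intro x d n t q hn hx
    rcases le_total n (N q) with hle | hle
    · obtain ⟨k, hk⟩ := Nat.exists_eq_add_of_le hle
      obtain ⟨r, hr⟩ := quot_inj hq n (c (N q) x - d)
        (t - algebraMap R R' (f ^ k) * s (N q) x) (by
          have h1 := hs (N q) x
          rw [show f ^ N q = f ^ n * f ^ k by rw [hk, pow_add], map_mul] at h1
          rw [map_sub]
          linear_combination hx - h1)
      rw [← sub_eq_zero, ← sub_smul, hr, mul_smul, hn, smul_zero]
    · obtain ⟨k, hk⟩ := Nat.exists_eq_add_of_le hle
      obtain ⟨r, hr⟩ := quot_inj hq (N q) (c (N q) x - d)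
        (algebraMap R R' (f ^ k) * t - s (N q) x) (by
          rw [show f ^ n = f ^ N q * f ^ k by rw [hk, pow_add], map_mul] at hx
          rw [map_sub]
          linear_combination hx - hs (N q) x)
      rw [← sub_eq_zero, ← sub_smul, hr, mul_smul, hN, smul_zero]
  let sm : SMul R' C := ⟨fun x q => c (N q) x • q⟩
  have hsm : ∀ (x : R') (q : C), x • q = c (N q) x • q := fun _ _ => rfl
  let m : Module R' C :=
    { sm with
      one_smul := fun q => by rw [hsm, key 1 1 (N q) 0 q (hN q) (by simp), one_smul]
      mul_smul := fun x y q => by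
        have h0 : f ^ N q • (c (N q) y • q) = 0 := by rw [smul_comm, hN, smul_zero]
        rw [hsm x (y • q), hsm y q, key x (c (N q) x) (N q) (s (N q) x) _ h0 (hs _ x), hsm,
          ← mul_smul]
        refine key _ _ (N q) (algebraMap R R' (c (N q) x) * s (N q) y +
          s (N q) x * algebraMap R R' (c (N q) y) +
          algebraMap R R' (f ^ N q) * s (N q) x * s (N q) y) q (hN q) ?_
        rw [map_mul]
        conv_lhs => rw [hs (N q) x, hs (N q) y]
        ring
      smul_zero := fun x => by rw [hsm, smul_zero]
      smul_add := fun x p q => by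
        have hp : f ^ (N p + N q) • p = 0 := by
          rw [add_comm, pow_add, mul_smul, hN, smul_zero]
        have hq : f ^ (N p + N q) • q = 0 := by rw [pow_add, mul_smul, hN, smul_zero]
        have hpq : f ^ (N p + N q) • (p + q) = 0 := by rw [smul_add, hp, hq, add_zero]
        rw [hsm, hsm, hsm, key x _ _ _ _ hpq (hs (N p + N q) x),
          key x _ _ _ _ hp (hs (N p + N q) x), key x _ _ _ _ hq (hs (N p + N q) x), smul_add]
      add_smul := fun x y q => by
        rw [hsm, hsm, hsm, ← add_smul]
        refine key _ _ (N q) (s (N q) x + s (N q) y) q (hN q) ?_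
        conv_lhs => rw [hs (N q) x, hs (N q) y]
        rw [map_add]
        ring
      zero_smul := fun q => by rw [hsm, key 0 0 (N q) 0 q (hN q) (by simp), zero_smul] }
  refine ⟨m, IsScalarTower.of_algebraMap_smul fun r q => ?_⟩
  rw [hsm]
  exact key _ r (N q) 0 q (hN q) (by simp)

section
variable {F M : Type u} [AddCommGroup F] [Module R F] [Module.Flat R F] [AddCommGroup M]
  [Module R M] (g : F →ₗ[R] M) (hg : Function.Surjective g)

include hg in
lemma ker_injective (hRR : EtGlue.IsGlueingPair R R' f)
    [Module.Flat (Localization.Away f) (Localization.Away f ⊗[R] M)] :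
    Function.Injective ((LinearMap.ker g).subtype.lTensor R') := by
  rw [injective_iff_map_eq_zero]
  intro t ht
  have hf : Function.Injective ((LinearMap.ker g).subtype.lTensor (Localization.Away f)) :=
    Module.Flat.lTensor_preserves_injective_linearMap _ Subtype.val_injective
  have hN := inj_of_tower (C := Localization.Away f) g hg hf (N := Localization.Away f ⊗[R] R')
  let e : R' →ₗ[R] Localization.Away f ⊗[R] R' := TensorProduct.mk R _ R' 1
  have h0 : e.rTensor (LinearMap.ker g) t = 0 := by
    apply hN
    rw [map_zero, ← LinearMap.comp_apply, LinearMap.lTensor_comp_rTensor,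
      ← LinearMap.rTensor_comp_lTensor, LinearMap.comp_apply, ht, map_zero]
  have h1 : TensorProduct.mk R (Localization.Away f) (R' ⊗[R] LinearMap.ker g) 1 t = 0 := by
    have : ∀ z, TensorProduct.mk R (Localization.Away f) (R' ⊗[R] LinearMap.ker g) 1 z =
        TensorProduct.assoc R _ _ _ (e.rTensor (LinearMap.ker g) z) := by
      intro z
      induction z using TensorProduct.induction_on with
      | zero => simp only [map_zero]
      | add x y hx hy => simp only [map_add, hx, hy]
      | tmul a b => rfl
    rw [this, h0, map_zero]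
  have : IsLocalizedModule (Submonoid.powers f)
      (TensorProduct.mk R (Localization.Away f) (R' ⊗[R] LinearMap.ker g) 1) :=
    (isLocalizedModule_iff_isBaseChange (Submonoid.powers f) (Localization.Away f) _).2
      (TensorProduct.isBaseChange R _ _)
  obtain ⟨⟨_, k, rfl⟩, hk⟩ := (IsLocalizedModule.eq_zero_iff (Submonoid.powers f) _).1 h1
  obtain ⟨m, rfl, j, hj⟩ := Groth.Agent.S2000.torsion_lift hRR (LinearMap.ker g) t k hk
  rw [LinearMap.lTensor_tmul] at ht
  let p : R →ₗ[R] R' × Localization.Away f :=
    (Algebra.linearMap R R').prod (Algebra.linearMap R (Localization.Away f))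
  have hp : Function.Injective p := hRR.2.1
  have h2 : p.rTensor F ((1 : R) ⊗ₜ[R] (m : F)) = 0 := by
    apply (TensorProduct.prodLeft R R R' (Localization.Away f) F).injective
    rw [map_zero, LinearMap.rTensor_tmul]
    simp only [p, LinearMap.prod_apply, Function.prod_apply, Algebra.linearMap_apply, map_one,
      TensorProduct.prodLeft_tmul]
    refine Prod.ext ht ?_
    have hu : IsUnit (algebraMap R (Localization.Away f) (f ^ j)) :=
      IsLocalization.map_units (M := Submonoid.powers f) _ ⟨f ^ j, j, rfl⟩
    apply hu.smul_left_cancel.1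
    rw [algebraMap_smul, ← TensorProduct.tmul_smul, ← Submodule.coe_smul, hj]
    simp
  have h3 : (1 : R) ⊗ₜ[R] (m : F) = 0 :=
    Module.Flat.rTensor_preserves_injective_linearMap p hp (h2.trans (map_zero _).symm)
  have h4 : (m : F) = 0 := by simpa using congrArg (TensorProduct.lid R F) h3
  rw [show m = 0 from Subtype.ext h4, TensorProduct.tmul_zero]

include hg in
lemma torsion_injective (hRR : EtGlue.IsGlueingPair R R' f) [Module.Flat R' (R' ⊗[R] M)]
    [Module.Flat (Localization.Away f) (Localization.Away f ⊗[R] M)]
    (C : Type u) [AddCommGroup C] [Module R C] (hC : ∀ q : C, ∃ n : ℕ, f ^ n • q = 0) :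
    Function.Injective ((LinearMap.ker g).subtype.lTensor C) := by
  obtain ⟨_, _⟩ := exists_module_of_torsion (R' := R') hRR.1 C hC
  exact inj_of_tower (C := R') g hg (ker_injective g hg hRR)

include hg in
lemma flat_baseChange_ker (C : Type u) [CommRing C] [Algebra R C] [Module.Flat C (C ⊗[R] M)]
    (hC : Function.Injective ((LinearMap.ker g).subtype.lTensor C)) :
    Module.Flat C (C ⊗[R] LinearMap.ker g) :=
  flat_ker ((LinearMap.ker g).subtype.baseChange C) hC (g.baseChange C)
    (LinearMap.lTensor_surjective C hg) (lTensor_exact C (LinearMap.exact_subtype_ker_map g) hg)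

end

/-- Injective maps with torsion cokernel stay injective. -/
lemma rTensor_injective_of_torsion_coker (hRR : EtGlue.IsGlueingPair R R' f)
    (L : Type u) [AddCommGroup L] [Module R L] [Module.Flat R' (R' ⊗[R] L)]
    [Module.Flat (Localization.Away f) (Localization.Away f ⊗[R] L)]
    {Y : Type u} [AddCommGroup Y] [Module R Y] (X : Submodule R Y)
    (hX : ∀ y : Y, ∃ n : ℕ, f ^ n • y ∈ X) : Function.Injective (X.subtype.rTensor L) := by
  let g₂ : (L →₀ R) →ₗ[R] L := Finsupp.linearCombination R id
  have hg₂ : Function.Surjective g₂ := fun m => ⟨Finsupp.single m 1, by simp [g₂]⟩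
  have hQ : ∀ q : Y ⧸ X, ∃ n : ℕ, f ^ n • q = 0 := by
    intro q
    obtain ⟨q, rfl⟩ := Submodule.mkQ_surjective _ q
    obtain ⟨n, hn⟩ := hX q
    exact ⟨n, by rw [← map_smul]; exact (Submodule.Quotient.mk_eq_zero _).2 hn⟩
  exact chase g₂ hg₂ X.subtype Subtype.val_injective X.mkQ (Submodule.mkQ_surjective _)
    (LinearMap.exact_subtype_mkQ _) (torsion_injective g₂ hg₂ hRR _ hQ)

/-- The kernel of a presentation is universally injective. -/
lemma ker_lTensor_injective (hRR : EtGlue.IsGlueingPair R R' f) {F M : Type u} [AddCommGroup F]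
    [Module R F] [Module.Flat R F] [AddCommGroup M] [Module R M] (g : F →ₗ[R] M)
    (hg : Function.Surjective g) [Module.Flat R' (R' ⊗[R] M)]
    [Module.Flat (Localization.Away f) (Localization.Away f ⊗[R] M)]
    [Module.Flat R' (R' ⊗[R] LinearMap.ker g)]
    [Module.Flat (Localization.Away f) (Localization.Away f ⊗[R] LinearMap.ker g)]
    {A : Type u} [AddCommGroup A] [Module R A] {B : Type u} [AddCommGroup B] [Module R B]
    [Module (Localization.Away f) B] [IsScalarTower R (Localization.Away f) B] (l : A →ₗ[R] B)
    [IsLocalizedModule (Submonoid.powers f) l] :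
    Function.Injective ((LinearMap.ker g).subtype.lTensor A) := by
  have hT : ∀ q : LinearMap.ker l, ∃ n : ℕ, f ^ n • q = 0 := fun q => by
    obtain ⟨⟨_, n, rfl⟩, hn⟩ := (IsLocalizedModule.eq_zero_iff (Submonoid.powers f) l).1 q.2
    exact ⟨n, Subtype.ext hn⟩
  have hX : ∀ q : B, ∃ n : ℕ, f ^ n • q ∈ LinearMap.range l := fun q => by
    obtain ⟨⟨a, s⟩, ha⟩ := IsLocalizedModule.surj (Submonoid.powers f) l q
    obtain ⟨n, hn⟩ := s.2
    refine ⟨n, a, ?_⟩
    rw [← ha]
    simp only [Submonoid.smul_def, ← hn]
  have hr : Function.Injective ((LinearMap.range l).subtype.rTensor (LinearMap.ker g)) :=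
    rTensor_injective_of_torsion_coker hRR _ _ hX
  have hA : Function.Injective ((LinearMap.ker g).subtype.lTensor B) :=
    inj_of_tower (C := Localization.Away f) g hg
      (Module.Flat.lTensor_preserves_injective_linearMap _ Subtype.val_injective)
  rw [injective_iff_map_eq_zero]
  intro z hz
  have h1 : l.rangeRestrict.rTensor (LinearMap.ker g) z = 0 := by
    apply hr
    rw [map_zero, ← LinearMap.rTensor_comp_apply]
    apply hA
    rw [map_zero, show (LinearMap.range l).subtype.comp l.rangeRestrict = l from rfl,
      ← LinearMap.comp_apply, LinearMap.lTensor_comp_rTensor, ← LinearMap.rTensor_comp_lTensor,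
      LinearMap.comp_apply, hz, map_zero]
  have hex : Function.Exact (LinearMap.ker l).subtype l.rangeRestrict :=
    LinearMap.exact_iff.2 (by rw [LinearMap.ker_rangeRestrict, Submodule.range_subtype])
  obtain ⟨t, ht⟩ := (rTensor_exact _ hex l.surjective_rangeRestrict z).1 h1
  rw [← ht] at hz ⊢
  rw [← LinearMap.comp_apply, LinearMap.lTensor_comp_rTensor, ← LinearMap.rTensor_comp_lTensor,
    LinearMap.comp_apply] at hz
  have h2 : (LinearMap.ker g).subtype.lTensor (LinearMap.ker l) t = 0 :=
    Module.Flat.rTensor_preserves_injective_linearMap (LinearMap.ker l).subtype Subtype.val_injective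
      (hz.trans (map_zero _).symm)
  rw [torsion_injective g hg hRR _ hT (h2.trans (map_zero _).symm), map_zero]

/-- Flatness descends along a glueing pair. -/
theorem flat_of_glueing (hRR : EtGlue.IsGlueingPair R R' f) (M : Type u) [AddCommGroup M]
    [Module R M] [Module.Flat R' (R' ⊗[R] M)]
    [Module.Flat (Localization.Away f) (Localization.Away f ⊗[R] M)] : Module.Flat R M := by
  let g : (M →₀ R) →ₗ[R] M := Finsupp.linearCombination R id
  have hg : Function.Surjective g := fun m => ⟨Finsupp.single m 1, by simp [g]⟩
  have hLf : Function.Injective ((LinearMap.ker g).subtype.lTensor (Localization.Away f)) :=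
    Module.Flat.lTensor_preserves_injective_linearMap _ Subtype.val_injective
  have := flat_baseChange_ker g hg R' (ker_injective g hg hRR)
  have := flat_baseChange_ker g hg (Localization.Away f) hLf
  rw [Module.Flat.iff_rTensor_preserves_injective_linearMap]
  intro X Y _ _ _ _ u hu
  exact chase g hg u hu _ (Submodule.mkQ_surjective _) (LinearMap.exact_map_mkQ_range u)
    (ker_lTensor_injective hRR g hg
      (LocalizedModule.mkLinearMap (Submonoid.powers f) (Y ⧸ LinearMap.range u)))

/-- A module is zero when it dies in both corners of a glueing pair. -/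
theorem subsingleton_of_glueing (hRR : EtGlue.IsGlueingPair R R' f) (Q : Type u) [AddCommGroup Q]
    [Module R Q] [Subsingleton (R' ⊗[R] Q)] [Subsingleton (Localization.Away f ⊗[R] Q)] :
    Subsingleton Q := by
  have : IsLocalizedModule (Submonoid.powers f) (TensorProduct.mk R (Localization.Away f) Q 1) :=
    (isLocalizedModule_iff_isBaseChange (Submonoid.powers f) (Localization.Away f) _).2
      (TensorProduct.isBaseChange R _ _)
  have hQ : ∀ q : Q, ∃ n : ℕ, f ^ n • q = 0 := fun q => by
    obtain ⟨⟨_, n, rfl⟩, hn⟩ := (IsLocalizedModule.eq_zero_iff (Submonoid.powers f)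
      (TensorProduct.mk R (Localization.Away f) Q 1)).1 (Subsingleton.elim _ _)
    exact ⟨n, hn⟩
  obtain ⟨_, _⟩ := exists_module_of_torsion (R' := R') hRR.1 Q hQ
  have hμ : Function.Surjective ((LinearMap.id : Q →ₗ[R] Q).liftBaseChange R') :=
    fun q => ⟨1 ⊗ₜ q, by simp⟩
  exact hμ.subsingleton

/-- Finite generation descends along a glueing pair. -/
theorem finite_of_glueing (hRR : EtGlue.IsGlueingPair R R' f) (M : Type u) [AddCommGroup M]
    [Module R M] [Module.Finite R' (R' ⊗[R] M)]
    [Module.Finite (Localization.Away f) (Localization.Away f ⊗[R] M)] : Module.Finite R M := by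
  classical
  obtain ⟨s, hs⟩ := Module.Finite.fg_top (R := R') (M := R' ⊗[R] M)
  obtain ⟨t, ht⟩ := Module.Finite.fg_top (R := Localization.Away f)
    (M := Localization.Away f ⊗[R] M)
  choose F₁ hF₁ using fun z : R' ⊗[R] M => TensorProduct.exists_finset z
  choose F₂ hF₂ using fun z : Localization.Away f ⊗[R] M => TensorProduct.exists_finset z
  let G : Finset M := (s.biUnion fun z => (F₁ z).image Prod.snd) ∪
    (t.biUnion fun z => (F₂ z).image Prod.snd)
  let N : Submodule R M := Submodule.span R G
  have aux : ∀ (C : Type u) [CommRing C] [Algebra R C] (s : Finset (C ⊗[R] M))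
      (F : C ⊗[R] M → Finset (C × M)), Submodule.span C (s : Set (C ⊗[R] M)) = ⊤ →
      (∀ z, z = ∑ i ∈ F z, i.1 ⊗ₜ[R] i.2) → (∀ z ∈ s, ∀ i ∈ F z, i.2 ∈ N) →
      Subsingleton (C ⊗[R] (M ⧸ N)) := by
    intro C _ _ s F hs hF hN
    refine subsingleton_of_forall_eq 0 fun w => ?_
    obtain ⟨z, rfl⟩ := LinearMap.lTensor_surjective C N.mkQ_surjective w
    change N.mkQ.baseChange C z = 0
    have hz : z ∈ LinearMap.ker (N.mkQ.baseChange C) := by
      refine (hs.ge.trans (Submodule.span_le.2 fun z hz => ?_)) Submodule.mem_top
      rw [SetLike.mem_coe, LinearMap.mem_ker, hF z, map_sum]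
      refine Finset.sum_eq_zero fun i hi => ?_
      rw [LinearMap.baseChange_tmul, Submodule.mkQ_apply,
        (Submodule.Quotient.mk_eq_zero N).2 (hN z hz i hi), TensorProduct.tmul_zero]
    exact hz
  have := aux R' s F₁ hs hF₁ fun z hz i hi => Submodule.subset_span (by
    simp only [G, Finset.coe_union, Finset.coe_biUnion, Finset.coe_image, Set.mem_union,
      Set.mem_iUnion]
    exact Or.inl ⟨z, hz, i, hi, rfl⟩)
  have := aux (Localization.Away f) t F₂ ht hF₂ fun z hz i hi => Submodule.subset_span (by
    simp only [G, Finset.coe_union, Finset.coe_biUnion, Finset.coe_image, Set.mem_union,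
      Set.mem_iUnion]
    exact Or.inr ⟨z, hz, i, hi, rfl⟩)
  have := subsingleton_of_glueing hRR (M ⧸ N)
  exact ⟨⟨G, Submodule.Quotient.subsingleton_iff.1 this⟩⟩

/-- Finite projectivity descends along a glueing pair. -/
theorem finite_projective_of_glueing (hRR : EtGlue.IsGlueingPair R R' f) (M : Type u)
    [AddCommGroup M] [Module R M] [Module.Finite R' (R' ⊗[R] M)]
    [Module.Projective R' (R' ⊗[R] M)]
    [Module.Finite (Localization.Away f) (Localization.Away f ⊗[R] M)]
    [Module.Projective (Localization.Away f) (Localization.Away f ⊗[R] M)] :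
    Module.Finite R M ∧ Module.Projective R M := by
  have := flat_of_glueing hRR M
  have := finite_of_glueing hRR M
  obtain ⟨n, g, hg⟩ := Module.Finite.exists_fin' R M
  have hfin : ∀ (C : Type u) [CommRing C] [Algebra R C] [Module.Finite C (C ⊗[R] M)]
      [Module.Projective C (C ⊗[R] M)], Module.Finite C (C ⊗[R] LinearMap.ker g) := by
    intro C _ _ _ _
    have hi : Function.Injective ((LinearMap.ker g).subtype.baseChange C) :=
      LinearMap.lTensor_injective_of_exact_of_flat g hg _ Subtype.val_injective
        (LinearMap.exact_subtype_ker_map g) C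
    have hex : Function.Exact ((LinearMap.ker g).subtype.baseChange C) (g.baseChange C) :=
      lTensor_exact C (LinearMap.exact_subtype_ker_map g) hg
    have : Module.FinitePresentation C (C ⊗[R] M) :=
      Module.finitePresentation_of_projective C _
    have h1 : (LinearMap.ker (g.baseChange C)).FG :=
      Module.FinitePresentation.fg_ker _ (LinearMap.lTensor_surjective C hg)
    rw [hex.linearMap_ker_eq] at h1
    have := Module.Finite.iff_fg.2 h1
    exact Module.Finite.equiv (LinearEquiv.ofInjective _ hi).symm
  have := hfin R'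
  have := hfin (Localization.Away f)
  have := finite_of_glueing hRR (LinearMap.ker g)
  have : Module.FinitePresentation R M :=
    Module.finitePresentation_of_surjective g hg (Module.Finite.iff_fg.1 this)
  exact ⟨inferInstance, Module.Flat.projective_of_finitePresentation⟩

end Groth.Agent.GlueFlatLib
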